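import Mathlib

/-!
# The Hasse–Davenport lifting relation
-/

set_option autoImplicit false

open Polynomial Finset UniqueFactorizationMonoid

namespace Groth.Agent.HasseDav

open scoped Classical

variable {F : Type} [Field F] [Fintype F] {R : Type} [CommRing R] (χ : MulChar F R) (ψ : AddChar F R)

/-- The character on monic polynomials. -/
noncomputable def lam (f : F[X]) : R := χ ((-1) ^ f.natDegree * f.coeff 0) * ψ (-f.nextCoeff)

omit [Fintype F] in
theorem lam_one : lam χ ψ 1 = 1 := by simp [lam, nextCoeff]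

omit [Fintype F] in
theorem lam_mul {f g : F[X]} (hf : f.Monic) (hg : g.Monic) : lam χ ψ (f * g) = lam χ ψ f * lam χ ψ g := by
  rw [lam, hf.natDegree_mul hg, mul_coeff_zero, hf.nextCoeff_mul hg, neg_add, AddChar.map_add_eq_mul, pow_add,
    show (-1 : F) ^ f.natDegree * (-1) ^ g.natDegree * (f.coeff 0 * g.coeff 0) =
      ((-1) ^ f.natDegree * f.coeff 0) * ((-1) ^ g.natDegree * g.coeff 0) by ring, map_mul, lam, lam]
  ring

omit [Fintype F] in
theorem lam_pow {f : F[X]} (hf : f.Monic) (e : ℕ) : lam χ ψ (f ^ e) = lam χ ψ f ^ e := by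
  induction e with
  | zero => simp [lam_one]
  | succ e ih => rw [pow_succ, lam_mul χ ψ (hf.pow e) hf, ih, pow_succ]

/-- The monic polynomial with given lower coefficients. -/
noncomputable def mk {d : ℕ} (c : Fin d → F) : F[X] := X ^ d + ∑ i, C (c i) * X ^ (i : ℕ)

omit [Fintype F] in
theorem degree_sum_lt {d : ℕ} (c : Fin d → F) : (∑ i, C (c i) * X ^ (i : ℕ) : F[X]).degree < d :=
  (degree_sum_le _ _).trans_lt ((Finset.sup_lt_iff (WithBot.bot_lt_coe d)).2 fun i _ =>
    (degree_C_mul_X_pow_le _ _).trans_lt (WithBot.coe_lt_coe.2 i.2))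

omit [Fintype F] in
theorem mk_monic {d : ℕ} (c : Fin d → F) : (mk c).Monic := monic_X_pow_add (degree_sum_lt c)

omit [Fintype F] in
theorem natDegree_mk {d : ℕ} (c : Fin d → F) : (mk c).natDegree = d := by
  refine natDegree_eq_of_degree_eq_some ?_
  rw [mk, degree_add_eq_left_of_degree_lt] <;> rw [degree_X_pow]
  exact degree_sum_lt c

omit [Fintype F] in
theorem coeff_mk {d : ℕ} (c : Fin d → F) (i : Fin d) : (mk c).coeff i = c i := by
  simp [mk, coeff_X_pow, i.2.ne, Fin.val_inj]

omit [Fintype F] in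
theorem mk_injective {d : ℕ} : Function.Injective (mk (F := F) (d := d)) := fun c c' h =>
  funext fun i => by rw [← coeff_mk c, h, coeff_mk]

omit [Fintype F] in
theorem eq_mk {f : F[X]} (hf : f.Monic) : f = mk fun i : Fin f.natDegree => f.coeff i := by
  conv_lhs => rw [hf.as_sum]
  rw [mk, Fin.sum_univ_eq_sum_range (fun i => C (f.coeff i) * X ^ i)]

/-- The monic polynomials of given degree. -/
noncomputable def monics (d : ℕ) : Finset F[X] :=
  Finset.univ.map ⟨mk (F := F) (d := d), mk_injective⟩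

theorem mem_monics {d : ℕ} {f : F[X]} : f ∈ monics d ↔ f.Monic ∧ f.natDegree = d := by
  rw [monics, Finset.mem_map]
  constructor
  · rintro ⟨c, -, rfl⟩; exact ⟨mk_monic c, natDegree_mk c⟩
  · rintro ⟨hf, rfl⟩; exact ⟨_, Finset.mem_univ _, (eq_mk hf).symm⟩

/-- The sum over monic polynomials of given degree. -/
noncomputable def M (d : ℕ) : R := ∑ f ∈ monics d, lam χ ψ f

theorem M_zero : M χ ψ 0 = 1 := by
  simp [M, monics, mk, lam_one]

theorem M_one : M χ ψ 1 = ∑ x : F, χ x * ψ x := by
  rw [M, monics, Finset.sum_map]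
  refine Fintype.sum_equiv ((Equiv.funUnique (Fin 1) F).trans (Equiv.neg F)) _ _ fun c => ?_
  simp [lam, natDegree_mk, mk, nextCoeff]

theorem M_eq_zero [IsDomain R] (hψ : ψ ≠ 1) {d : ℕ} (hd : 2 ≤ d) : M χ ψ d = 0 := by
  classical
  obtain ⟨a, ha⟩ : ∃ a, ψ a ≠ 1 := by
    by_contra! h
    exact hψ (DFunLike.ext _ _ fun a => by rw [h a]; rfl)
  let last : Fin d := ⟨d - 1, by omega⟩
  rw [M, monics, Finset.sum_map]
  refine (mul_eq_zero.1 (?_ : (ψ a - 1) * _ = 0)).resolve_left (sub_ne_zero.2 ha)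
  rw [sub_mul, one_mul, sub_eq_zero, Finset.mul_sum]
  refine Fintype.sum_equiv (Equiv.addRight (Pi.single last (-a))) _ _ fun c => ?_
  have h0 : ∀ c : Fin d → F, (mk c).coeff 0 = c ⟨0, by omega⟩ := fun c => coeff_mk c ⟨0, by omega⟩
  have hn : ∀ c : Fin d → F, (mk c).nextCoeff = c last := fun c => by
    rw [nextCoeff_of_natDegree_pos (by rw [natDegree_mk]; omega), natDegree_mk]
    exact coeff_mk c last
  simp only [Function.Embedding.coeFn_mk, Equiv.coe_addRight, lam, natDegree_mk, h0, hn, Pi.add_apply]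
  rw [Pi.single_eq_same, Pi.single_eq_of_ne (by simp [last, Fin.ext_iff]; omega), add_zero, neg_add, neg_neg,
    AddChar.map_add_eq_mul]
  ring

/-- The monic irreducibles of given degree. -/
noncomputable def irr (i : ℕ) : Finset F[X] :=
  (monics i).filter Irreducible

theorem mem_irr {i : ℕ} {P : F[X]} : P ∈ irr i ↔ P.Monic ∧ P.natDegree = i ∧ Irreducible P := by
  classical
  rw [irr, Finset.mem_filter, mem_monics, and_assoc]

/-- The power sums. -/
noncomputable def S (j : ℕ) : R := ∑ i ∈ j.divisors, ∑ P ∈ irr i, (i : R) * lam χ ψ P ^ (j / i)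

theorem sum_dvd_natDegree {d : ℕ} {f : F[X]} (hf : f ∈ monics d) :
    ∑ j ∈ Finset.Icc 1 d, ∑ i ∈ j.divisors, ∑ P ∈ (irr (F := F) i), (if P ^ (j / i) ∣ f then i else 0) = d := by
  classical
  obtain ⟨hf1, hf2⟩ := mem_monics.1 hf
  let s := normalizedFactors f
  have hs : ∀ P ∈ s, Irreducible P ∧ P.Monic ∧ P ∣ f := fun P hP =>
    (Polynomial.mem_normalizedFactors_iff hf1.ne_zero).1 hP
  have hdeg : ∑ P ∈ s.toFinset, s.count P * P.natDegree = d := by
    have hprod : s.prod = f := by
      simpa [hf1.leadingCoeff] using Polynomial.leadingCoeff_mul_prod_normalizedFactors f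
    rw [← hf2, ← hprod, natDegree_multiset_prod_of_monic _ (fun P hP => (hs P hP).2.1),
      Finset.sum_multiset_map_count]
    simp
  have hdvd : ∀ {P : F[X]} (_ : Irreducible P) (_ : P.Monic) (e : ℕ), P ^ e ∣ f ↔ e ≤ s.count P := fun {P} hP hPm e => by
    rw [dvd_iff_normalizedFactors_le_normalizedFactors (pow_ne_zero e hP.ne_zero) hf1.ne_zero,
      normalizedFactors_pow, normalizedFactors_irreducible hP, hPm.normalize_eq_self, Multiset.nsmul_singleton,
      ← Multiset.le_count_iff_replicate_le]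
  calc
    _ = ∑ x ∈ (Finset.Icc 1 d).sigma (fun j => j.divisors.sigma fun i => irr (F := F) i),
        (if x.2.2 ^ (x.1 / x.2.1) ∣ f then x.2.1 else 0) := by
      rw [Finset.sum_sigma]; exact Finset.sum_congr rfl fun j _ => by rw [Finset.sum_sigma]
    _ = ∑ y ∈ s.toFinset.sigma (fun P => Finset.Icc 1 (s.count P)), y.1.natDegree := by
      rw [← Finset.sum_filter]
      refine Finset.sum_nbij' (fun x => ⟨x.2.2, x.1 / x.2.1⟩) (fun y => ⟨y.1.natDegree * y.2, y.1.natDegree, y.1⟩)
        ?_ ?_ ?_ ?_ ?_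
      · rintro ⟨j, i, P⟩ hx
        simp only [Finset.mem_filter, Finset.mem_coe, Finset.mem_sigma, Nat.mem_divisors] at hx
        obtain ⟨⟨hj, ⟨hij, hj0⟩, hP⟩, hPf⟩ := hx
        obtain ⟨hPm, rfl, hPi⟩ := mem_irr.1 hP
        have hpos : 0 < j / P.natDegree := Nat.div_pos (Nat.le_of_dvd (Nat.pos_of_ne_zero hj0) hij) hPi.natDegree_pos
        have hle := (hdvd hPi hPm _).1 hPf
        simp only [Finset.mem_coe, Finset.mem_sigma, Multiset.mem_toFinset, Finset.mem_Icc]
        exact ⟨Multiset.count_pos.1 (hpos.trans_le hle), hpos, hle⟩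
      · rintro ⟨P, e⟩ hy
        simp only [Finset.mem_coe, Finset.mem_sigma, Multiset.mem_toFinset, Finset.mem_Icc] at hy
        obtain ⟨hPs, he1, he2⟩ := hy
        obtain ⟨hPi, hPm, -⟩ := hs P hPs
        have hpos := hPi.natDegree_pos
        have hpe : 0 < P.natDegree * e := Nat.mul_pos hpos he1
        simp only [Finset.mem_filter, Finset.mem_coe, Finset.mem_sigma, Nat.mem_divisors, Finset.mem_Icc]
        refine ⟨⟨⟨hpe, ?_⟩, ⟨dvd_mul_right _ _, hpe.ne'⟩, mem_irr.2 ⟨hPm, rfl, hPi⟩⟩, ?_⟩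
        · calc P.natDegree * e ≤ s.count P * P.natDegree := by rw [mul_comm]; exact Nat.mul_le_mul_right _ he2
            _ ≤ d := hdeg ▸ Finset.single_le_sum (f := fun P => s.count P * P.natDegree) (fun _ _ => Nat.zero_le _)
              (Multiset.mem_toFinset.2 hPs)
        · rw [Nat.mul_div_cancel_left _ hpos]; exact (hdvd hPi hPm e).2 he2
      · rintro ⟨j, i, P⟩ hx
        simp only [Finset.mem_filter, Finset.mem_coe, Finset.mem_sigma, Nat.mem_divisors] at hx
        obtain ⟨⟨-, ⟨hij, -⟩, hP⟩, -⟩ := hx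
        obtain ⟨-, rfl, -⟩ := mem_irr.1 hP
        simp [Nat.mul_div_cancel' hij]
      · rintro ⟨P, e⟩ hy
        simp only [Finset.mem_coe, Finset.mem_sigma, Multiset.mem_toFinset] at hy
        simp [Nat.mul_div_cancel_left _ (hs P hy.1).1.natDegree_pos]
      · rintro ⟨j, i, P⟩ hx
        simp only [Finset.mem_filter, Finset.mem_sigma] at hx
        exact (mem_irr.1 hx.1.2.2).2.1.symm
    _ = d := by
      rw [Finset.sum_sigma]
      simp [hdeg]

theorem newton (d : ℕ) : (d : R) * M χ ψ d = ∑ j ∈ Finset.Icc 1 d, S χ ψ j * M χ ψ (d - j) := by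
  classical
  conv_lhs => rw [M, Finset.mul_sum]
  calc
    _ = ∑ f ∈ monics d, ∑ j ∈ Finset.Icc 1 d, ∑ i ∈ j.divisors, ∑ P ∈ irr i,
        (if P ^ (j / i) ∣ f then (i : R) * lam χ ψ f else 0) := by
      refine Finset.sum_congr rfl fun f hf => ?_
      conv_lhs => rw [← sum_dvd_natDegree hf]
      simp only [Nat.cast_sum, Finset.sum_mul, Nat.cast_ite, Nat.cast_zero, ite_mul, zero_mul]
    _ = _ := by
      rw [Finset.sum_comm]
      refine Finset.sum_congr rfl fun j hj => ?_
      rw [Finset.sum_comm, S, Finset.sum_mul]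
      refine Finset.sum_congr rfl fun i hi => ?_
      rw [Finset.sum_comm, Finset.sum_mul]
      refine Finset.sum_congr rfl fun P hP => ?_
      obtain ⟨hPm, rfl, hPi⟩ := mem_irr.1 hP
      obtain ⟨hij, -⟩ := Nat.mem_divisors.1 hi
      set e := j / P.natDegree
      have hje : (P ^ e).natDegree = j := by
        rw [natDegree_pow, mul_comm, Nat.mul_div_cancel' hij]
      rw [← Finset.sum_filter, mul_assoc, M, Finset.mul_sum, Finset.mul_sum]
      refine (Finset.sum_bij (fun g _ => P ^ e * g) (fun g hg => ?_) (fun g _ g' _ h => ?_) (fun f hf => ?_)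
        (fun g hg => ?_)).symm
      · obtain ⟨hgm, hgd⟩ := mem_monics.1 hg
        refine Finset.mem_filter.2 ⟨mem_monics.2 ⟨(hPm.pow e).mul hgm, ?_⟩, dvd_mul_right _ _⟩
        rw [(hPm.pow e).natDegree_mul hgm, hje, hgd]
        have := (Finset.mem_Icc.1 hj).2
        omega
      · exact mul_left_cancel₀ (pow_ne_zero e hPm.ne_zero) h
      · obtain ⟨hfm, g, rfl⟩ := Finset.mem_filter.1 hf
        obtain ⟨hm, hd⟩ := mem_monics.1 hfm
        have hgm : g.Monic := (hPm.pow e).of_mul_monic_left hm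
        rw [(hPm.pow e).natDegree_mul hgm, hje] at hd
        exact ⟨g, mem_monics.2 ⟨hgm, by omega⟩, rfl⟩
      · rw [lam_mul χ ψ (hPm.pow e) (mem_monics.1 hg).1, lam_pow χ ψ hPm]

theorem S_eq [IsDomain R] (hψ : ψ ≠ 1) (n : ℕ) (hn : 1 ≤ n) :
    -S χ ψ n = (-(∑ x : F, χ x * ψ x)) ^ n := by
  induction n, hn using Nat.le_induction with
  | base =>
    have h := newton χ ψ 1
    rw [show Finset.Icc 1 1 = ({1} : Finset ℕ) from rfl, Finset.sum_singleton, Nat.sub_self, M_zero, M_one,
      mul_one, Nat.cast_one, one_mul] at h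
    rw [← h, pow_one]
  | succ n hn ih =>
    have h := newton χ ψ (n + 1)
    have hIcc : Finset.Icc 1 (n + 1) = insert (n + 1) (insert n (Finset.Ico 1 n)) := by
      ext j; simp only [Finset.mem_Icc, Finset.mem_insert, Finset.mem_Ico]; omega
    rw [M_eq_zero χ ψ hψ (by omega), mul_zero, hIcc, Finset.sum_insert (by simp),
      Finset.sum_insert (by simp), Finset.sum_eq_zero (s := Finset.Ico 1 n) (fun j hj => by
        rw [M_eq_zero χ ψ hψ (by rw [Finset.mem_Ico] at hj; omega), mul_zero]),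
      Nat.sub_self, M_zero, show n + 1 - n = 1 by omega, M_one] at h
    rw [pow_succ, ← ih]
    linear_combination h

variable {F' : Type} [Field F'] [Fintype F'] [Algebra F F']

theorem term_eq (x : F') :
    χ (Algebra.norm F x) * ψ (Algebra.trace F F' x) =
      lam χ ψ (minpoly F x) ^ (Module.finrank F F' / (minpoly F x).natDegree) := by
  haveI : Module.Finite F F' := Module.Finite.of_finite
  have hx : IsIntegral F x := .of_finite F x
  let L := IntermediateField.adjoin F ({x} : Set F')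
  have hL : Module.finrank F L = (minpoly F x).natDegree := IntermediateField.adjoin.finrank hx
  have hm : Module.finrank F F' / (minpoly F x).natDegree = Module.finrank L F' := by
    rw [← Module.finrank_mul_finrank F L F', hL, Nat.mul_div_cancel_left _ (minpoly.natDegree_pos hx)]
  have hN : Algebra.norm F x = ((-1) ^ (minpoly F x).natDegree * (minpoly F x).coeff 0) ^ Module.finrank L F' := by
    rw [Algebra.norm_eq_norm_adjoin F x]
    congr 1
    have := Algebra.PowerBasis.norm_gen_eq_coeff_zero_minpoly (IntermediateField.adjoin.powerBasis hx)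
    simpa [IntermediateField.minpoly_gen] using this
  have hT : Algebra.trace F F' x = Module.finrank L F' • (-(minpoly F x).nextCoeff) := by
    rw [trace_eq_finrank_mul_minpoly_nextCoeff, nsmul_eq_mul]
  rw [hm, hN, hT, map_pow, AddChar.map_nsmul_eq_pow, lam, mul_pow]

theorem sum_eq_S : ∑ x : F', χ (Algebra.norm F x) * ψ (Algebra.trace F F' x) = S χ ψ (Module.finrank F F') := by
  classical
  haveI : Module.Finite F F' := Module.Finite.of_finite
  set n := Module.finrank F F'
  have hn : n ≠ 0 := Module.finrank_pos.ne'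
  simp only [term_eq]
  rw [S, ← Finset.sum_sigma (s := n.divisors) (t := fun i => irr i) (f := fun p => (p.1 : R) * lam χ ψ p.2 ^ (n / p.1))]
  let g : F' → (Σ _ : ℕ, F[X]) := fun x => ⟨(minpoly F x).natDegree, minpoly F x⟩
  have hmem : ∀ x ∈ (Finset.univ : Finset F'), g x ∈ n.divisors.sigma fun i => irr i := fun x _ =>
    Finset.mem_sigma.2 ⟨Nat.mem_divisors.2 ⟨minpoly.degree_dvd (IsIntegral.of_finite F x), hn⟩,
      mem_irr.2 ⟨minpoly.monic (.of_finite F x), rfl, minpoly.irreducible (.of_finite F x)⟩⟩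
  rw [← Finset.sum_fiberwise_of_maps_to hmem]
  refine Finset.sum_congr rfl fun ⟨i, P⟩ hP => ?_
  obtain ⟨hi, hP'⟩ := Finset.mem_sigma.1 hP
  dsimp only at hi hP' ⊢
  obtain ⟨hPm, rfl, hPi⟩ := mem_irr.1 hP'
  have hin := (Nat.mem_divisors.1 hi).1
  have hfib : (Finset.univ.filter fun x : F' => g x = ⟨P.natDegree, P⟩) = (P.rootSet F').toFinset := by
    ext x
    simp only [Finset.mem_filter, Finset.mem_univ, true_and, Set.mem_toFinset, mem_rootSet, g]
    constructor
    · intro h
      have hm : minpoly F x = P := eq_of_heq (Sigma.mk.inj_iff.1 h).2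
      exact ⟨hPm.ne_zero, hm ▸ minpoly.aeval F x⟩
    · rintro ⟨-, h⟩
      rw [← minpoly.eq_of_irreducible_of_monic hPi h hPm]
  have hsplit : (P.map (algebraMap F F')).Splits := by
    have h1 := (hPi.natDegree_dvd_iff_dvd_X_pow_card_pow_sub_X (k := F) (n := n)).1 hin
    have h2 := Polynomial.map_dvd (algebraMap F F') h1
    rw [Polynomial.map_sub, Polynomial.map_pow, Polynomial.map_X, ← Module.natCard_eq_pow_finrank (K := F) (V := F'),
      Nat.card_eq_fintype_card] at h2
    refine Splits.of_dvd ?_ (FiniteField.X_pow_card_sub_X_ne_zero F' Fintype.one_lt_card) h2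
    rw [Polynomial.splits_iff_card_roots, FiniteField.roots_X_pow_card_sub_X,
      FiniteField.X_pow_card_sub_X_natDegree_eq F' Fintype.one_lt_card]
    exact Finset.card_univ
  have hsep : P.Separable := PerfectField.separable_of_irreducible hPi
  have hcard : (P.rootSet F').toFinset.card = P.natDegree := by
    rw [Set.toFinset_card, card_rootSet_eq_natDegree hsep hsplit]
  rw [Finset.sum_congr rfl (g := fun _ => lam χ ψ P ^ (n / P.natDegree)) fun x hx => by
    have h := (Sigma.mk.inj_iff.1 (Finset.mem_filter.1 hx).2)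
    rw [eq_of_heq h.2], Finset.sum_const, hfib, hcard, nsmul_eq_mul]

theorem hasse_davenport [IsDomain R] (hψ : ψ ≠ 1) :
    -(∑ x : F', χ (Algebra.norm F x) * ψ (Algebra.trace F F' x)) =
      (-(∑ x : F, χ x * ψ x)) ^ Module.finrank F F' := by
  haveI : Module.Finite F F' := Module.Finite.of_finite
  rw [sum_eq_S, S_eq χ ψ hψ _ Module.finrank_pos]

end Groth.Agent.HasseDav
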